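import Groth.Agent.SmDiff.Alg
import Mathlib

/-!
Smoothness of local homomorphisms at rational points through cotangent spaces.
-/

set_option autoImplicit false
set_option linter.style.haveILetI false

universe u

open TensorProduct KaehlerDifferential IsLocalRing

namespace Groth.Agent.SmDiff

section

variable (R P K : Type u) [CommRing R] [CommRing P] [Algebra R P] [CommRing K] [Algebra R K] [Algebra P K]
  [IsScalarTower R P K]

theorem tmul_D_eq_zero_iff [Algebra.FormallySmooth R P] (h : Function.Bijective (algebraMap R K)) {a : P}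
    (ha : a ∈ RingHom.ker (algebraMap P K)) :
    (1 : K) ⊗ₜ[P] D R P a = 0 ↔ a ∈ RingHom.ker (algebraMap P K) ^ 2 := by
  have hs : Function.Surjective (algebraMap P K) := fun z => by
    obtain ⟨r, hr⟩ := h.2 z
    exact ⟨algebraMap R P r, by rw [← IsScalarTower.algebraMap_apply, hr]⟩
  haveI : Algebra.FormallySmooth R K :=
    Algebra.FormallySmooth.of_equiv (AlgEquiv.ofBijective (Algebra.ofId R K) h)
  have hinj := (Algebra.FormallySmooth.kerCotangentToTensor_injective_iff (R := R) (P := P) (A := K) hs).2
    inferInstance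
  rw [← kerCotangentToTensor_toCotangent R P K ⟨a, ha⟩, map_eq_zero_iff _ hinj, Ideal.toCotangent_eq_zero]

theorem exists_eq_tmul_D (h : Function.Bijective (algebraMap R K)) (z : K ⊗[P] Ω[P⁄R]) :
    ∃ a ∈ RingHom.ker (algebraMap P K), z = (1 : K) ⊗ₜ[P] D R P a := by
  have hs : Function.Surjective (algebraMap P K) := fun z => by
    obtain ⟨r, hr⟩ := h.2 z
    exact ⟨algebraMap R P r, by rw [← IsScalarTower.algebraMap_apply, hr]⟩
  haveI := KaehlerDifferential.subsingleton_of_surjective R K h.2
  obtain ⟨c, rfl⟩ := (exact_kerCotangentToTensor_mapBaseChange R P K hs z).1 (Subsingleton.elim _ _)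
  obtain ⟨⟨a, ha⟩, rfl⟩ := Ideal.toCotangent_surjective _ c
  exact ⟨a, ha, kerCotangentToTensor_toCotangent R P K ⟨a, ha⟩⟩

end

theorem ker_eq_maximalIdeal {R P K : Type u} [CommRing R] [CommRing P] [IsLocalRing P] [Algebra R P] [Field K]
    [Algebra R K] [Algebra P K] [IsScalarTower R P K] (h : Function.Surjective (algebraMap R K)) :
    RingHom.ker (algebraMap P K) = maximalIdeal P :=
  eq_maximalIdeal (RingHom.ker_isMaximal_of_surjective _ fun z => by
    obtain ⟨r, hr⟩ := h z
    exact ⟨algebraMap R P r, by rw [← IsScalarTower.algebraMap_apply, hr]⟩)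

variable (R L M : Type u) [Field R] [CommRing L] [IsLocalRing L] [CommRing M] [IsLocalRing M] [Algebra R L]
  [Algebra R M] [Algebra L M] [IsScalarTower R L M] [Algebra.FormallySmooth R L] [Algebra.FormallySmooth R M]

/-- Formally smooth at a rational point implies injective on cotangent spaces. -/
theorem mem_sq_of_formallySmooth (h : Function.Surjective (algebraMap R (ResidueField M)))
    [Algebra.FormallySmooth L M] {a : L} (ha : a ∈ maximalIdeal L)
    (ha2 : algebraMap L M a ∈ maximalIdeal M ^ 2) : a ∈ maximalIdeal L ^ 2 := by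
  have hb : Function.Bijective (algebraMap R (ResidueField M)) := ⟨RingHom.injective _, h⟩
  rw [← ker_eq_maximalIdeal (R := R) (P := L) h] at ha ⊢
  rw [← ker_eq_maximalIdeal (R := R) (P := M) h] at ha2
  rw [← tmul_D_eq_zero_iff R L _ hb ha]
  have hφ : algebraMap L M a ∈ RingHom.ker (algebraMap M (ResidueField M)) := Ideal.pow_le_self two_ne_zero ha2
  have h0 := (tmul_D_eq_zero_iff R M _ hb hφ).2 ha2
  haveI : Subsingleton (Algebra.H1Cotangent L M) := Algebra.FormallySmooth.subsingleton_h1Cotangent
  have hinj : Function.Injective (mapBaseChange R L M) :=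
    (injective_iff_map_eq_zero _).2 fun x hx => by
      obtain ⟨y, rfl⟩ := (Algebra.H1Cotangent.exact_δ_mapBaseChange R L M x).1 hx
      rw [Subsingleton.elim y 0, map_zero]
  haveI : Module.Projective M Ω[M⁄L] := inferInstance
  obtain ⟨σ, hσ⟩ := Module.projective_lifting_property (map R L M M) LinearMap.id (map_surjective R L M)
  have h01 := ((exact_mapBaseChange_map R L M).split_tfae hinj (map_surjective R L M)).out 0 1
  obtain ⟨l, hl⟩ := h01.1 ⟨σ, hσ⟩
  have h1 := congrArg (l.lTensor (ResidueField M)) h0
  rw [map_zero, LinearMap.lTensor_tmul, show D R M (algebraMap L M a) = mapBaseChange R L M (1 ⊗ₜ D R L a) by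
    rw [mapBaseChange_tmul, one_smul, map_D], ← LinearMap.comp_apply, hl, LinearMap.id_apply] at h1
  have h2 := congrArg (AlgebraTensorModule.cancelBaseChange L M M (ResidueField M) Ω[L⁄R]) h1
  rwa [map_zero, AlgebraTensorModule.cancelBaseChange_tmul, one_smul] at h2

/-- Injective on cotangent spaces at a rational point implies formally smooth. -/
theorem formallySmooth_of_mem_sq (h : Function.Surjective (algebraMap R (ResidueField M)))
    [Module.Finite L Ω[L⁄R]] [Module.Finite M Ω[M⁄R]]
    (hsq : ∀ a ∈ maximalIdeal L, algebraMap L M a ∈ maximalIdeal M ^ 2 → a ∈ maximalIdeal L ^ 2) :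
    Algebra.FormallySmooth L M := by
  have hb : Function.Bijective (algebraMap R (ResidueField M)) := ⟨RingHom.injective _, h⟩
  haveI : Module.Free M Ω[M⁄R] := Module.free_of_flat_of_isLocalRing
  have hκ : Function.Injective ((mapBaseChange R L M).lTensor (ResidueField M)) := by
    refine (injective_iff_map_eq_zero _).2 fun z hz => ?_
    let e := AlgebraTensorModule.cancelBaseChange L M M (ResidueField M) Ω[L⁄R]
    obtain ⟨a, ha, he⟩ := exists_eq_tmul_D R L _ hb (e z)
    have hz' : z = (1 : ResidueField M) ⊗ₜ[M] ((1 : M) ⊗ₜ[L] D R L a) := e.injective (by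
      rw [he, AlgebraTensorModule.cancelBaseChange_tmul, one_smul])
    rw [hz', LinearMap.lTensor_tmul, mapBaseChange_tmul, one_smul, map_D] at hz
    have hφ : algebraMap L M a ∈ RingHom.ker (algebraMap M (ResidueField M)) := by
      rw [RingHom.mem_ker, ← IsScalarTower.algebraMap_apply]; exact ha
    have h2 := (tmul_D_eq_zero_iff R M _ hb hφ).1 hz
    rw [ker_eq_maximalIdeal (R := R) h] at h2
    have ha' := ha
    rw [ker_eq_maximalIdeal (R := R) h] at ha'
    have h3 := hsq a ha' h2
    rw [← ker_eq_maximalIdeal (R := R) (P := L) h, ← tmul_D_eq_zero_iff R L _ hb ha] at h3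
    rw [← e.map_eq_zero_iff, he, h3]
  haveI : Module.Free L Ω[L⁄R] := Module.free_of_flat_of_isLocalRing
  obtain ⟨l, hl⟩ := (IsLocalRing.split_injective_iff_lTensor_residueField_injective _).2 hκ
  have hinj : Function.Injective (mapBaseChange R L M) :=
    Function.HasLeftInverse.injective ⟨l, LinearMap.congr_fun hl⟩
  have h10 := ((exact_mapBaseChange_map R L M).split_tfae hinj (map_surjective R L M)).out 1 0
  obtain ⟨σ, hσ⟩ := h10.1 ⟨l, hl⟩
  haveI : Module.Projective M Ω[M⁄L] := Module.Projective.of_split σ _ hσ
  exact formallySmooth_of_injective R L M hinj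

/-- Smooth between standard smooth algebras: near each prime of the expected relative dimension. -/
theorem exists_away_of_smooth (R A B : Type u) [CommRing R] [CommRing A] [CommRing B] [Algebra R A] [Algebra R B]
    [Algebra A B] [IsScalarTower R A B] (a n : ℕ)
    [Algebra.IsStandardSmoothOfRelativeDimension a R A] [Algebra.IsStandardSmoothOfRelativeDimension (a + n) R B]
    [Algebra.Smooth A B] (p : Ideal B) [p.IsPrime] :
    ∃ g, g ∉ p ∧ ∀ (S : Type u) [CommRing S] [Algebra A S] [Algebra B S] [IsScalarTower A B S]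
      [IsLocalization.Away g S], Algebra.IsStandardSmoothOfRelativeDimension n A S := by
  haveI : Algebra.IsSmoothAt A p := inferInstance
  obtain ⟨g, hg, hstd⟩ := Algebra.IsSmoothAt.exists_notMem_isStandardSmooth A p
  refine ⟨g, hg, fun S _ _ _ _ _ => ?_⟩
  haveI := hstd
  obtain ⟨ι, σ, hσ, hι, ⟨P⟩⟩ : Algebra.IsStandardSmooth A S := Algebra.IsStandardSmooth.of_algEquiv
    ((IsLocalization.algEquiv (Submonoid.powers g) (Localization.Away g) S).restrictScalars A)
  haveI hP : Algebra.IsStandardSmoothOfRelativeDimension P.dimension A S := ⟨ι, σ, hσ, hι, P, rfl⟩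
  rcases subsingleton_or_nontrivial S with hs | hs
  · obtain ⟨i, hi⟩ := (IsLocalization.subsingleton_iff (M := Submonoid.powers g) (S := S)).1 hs
    exact absurd (‹p.IsPrime›.mem_of_pow_mem i (by
      have : g ^ i = 0 := hi
      rw [this]; exact p.zero_mem)) hg
  letI : Algebra R S := ((algebraMap B S).comp (algebraMap R B)).toAlgebra
  haveI : IsScalarTower R B S := IsScalarTower.of_algebraMap_eq' rfl
  haveI : IsScalarTower R A S := IsScalarTower.of_algebraMap_eq fun x => by
    rw [IsScalarTower.algebraMap_apply A B S, ← IsScalarTower.algebraMap_apply R A B]; rfl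
  haveI := Algebra.IsStandardSmoothOfRelativeDimension.localization_away (R := B) (S := S) g
  haveI h1 : Algebra.IsStandardSmoothOfRelativeDimension (0 + (a + n)) R S :=
    Algebra.IsStandardSmoothOfRelativeDimension.trans (a + n) 0 R B S
  haveI h2 : Algebra.IsStandardSmoothOfRelativeDimension (P.dimension + a) R S :=
    Algebra.IsStandardSmoothOfRelativeDimension.trans a P.dimension R A S
  have h := (Algebra.IsStandardSmoothOfRelativeDimension.rank_kaehlerDifferential (R := R) (S := S) (0 + (a + n))).symm.trans
    (Algebra.IsStandardSmoothOfRelativeDimension.rank_kaehlerDifferential (R := R) (S := S) (P.dimension + a))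
  have : P.dimension = n := by
    have : 0 + (a + n) = P.dimension + a := by exact_mod_cast h
    omega
  rw [← this]
  exact hP

end Groth.Agent.SmDiff
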