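import Groth.Agent.SmDiff.Alg
import Groth.Agent.FittLib.OmegaFit
import Groth.Agent.ExtShX.CodimField
import Groth.Agent.TMul.Frame
import Groth.Agent.W7Strat.Frame
import Mathlib

/-!
Smooth integral schemes over fields have a relative dimension; smoothness through the sheaf of differentials.
-/

set_option autoImplicit false
set_option backward.isDefEq.respectTransparency false
set_option linter.style.haveILetI false

universe u

open CategoryTheory CategoryTheory.Limits AlgebraicGeometry TopologicalSpace Opposite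
open Groth.Agent.QC (res resO)
open Groth.Agent.WeakAssLib (mgerm mgerm_smul)

noncomputable section

namespace Groth.Agent.SmDiff

/-- A smooth integral scheme of dimension `d` is smooth of relative dimension `d`. -/
theorem smoothOfRelativeDimension_of_dim {k : Type u} [Field k] {X : Scheme.{u}} [IsIntegral X]
    (p : X ⟶ Spec (CommRingCat.of k)) [Smooth p] (d : ℕ) (hd : topologicalKrullDim X = d) :
    SmoothOfRelativeDimension d p := by
  haveI : JacobsonSpace X := LocallyOfFiniteType.jacobsonSpace p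
  refine ⟨fun x => ?_⟩
  obtain ⟨V, hV, U, hU, hxU, e, hstd⟩ := Smooth.exists_isStandardSmooth p x
  refine ⟨V, hV, U, hU, hxU, e, ?_⟩
  algebraize [(p.appLE V U e).hom]
  obtain ⟨ι, σ, hσ, hι, ⟨P⟩⟩ := ‹Algebra.IsStandardSmooth Γ(Spec (CommRingCat.of k), V) Γ(X, U)›
  haveI : Algebra.IsStandardSmoothOfRelativeDimension P.dimension Γ(Spec (CommRingCat.of k), V) Γ(X, U) :=
    ⟨ι, σ, hσ, hι, P, rfl⟩
  suffices h : P.dimension = d by
    rw [← h]
    exact ‹Algebra.IsStandardSmoothOfRelativeDimension P.dimension Γ(Spec (CommRingCat.of k), V) Γ(X, U)›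
  obtain ⟨z, hzU, hz⟩ := nonempty_inter_closedPoints (X := X) (Z := (U : Set X)) ⟨x, hxU⟩ U.2.isLocallyClosed
  haveI : SmoothOfRelativeDimension P.dimension (U.ι ≫ p) := by
    refine ⟨fun w => ⟨V, hV, ⊤, haveI : IsAffine (U : Scheme.{u}) := hU; isAffineOpen_top _, trivial,
      fun w' _ => e w'.2, ?_⟩⟩
    have h1 : (U.ι ≫ p).appLE V ⊤ (fun w' _ => e w'.2) = p.appLE V U e ≫ U.topIso.inv := by
      rw [← Scheme.Hom.appLE_comp_appLE U.ι p V U ⊤ e (fun w' _ => w'.2)]
      congr 1
      simp [Scheme.Hom.appLE, Scheme.Opens.topIso, ← Functor.map_comp]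
      rfl
    rw [h1]
    exact RingHom.isStandardSmoothOfRelativeDimension_respectsIso.1 _ U.topIso.symm.commRingCatIsoToRingEquiv
      ((RingHom.isStandardSmoothOfRelativeDimension_algebraMap (R := Γ(Spec (CommRingCat.of k), V)) (S := Γ(X, U))
        P.dimension).mpr inferInstance)
  obtain ⟨a, b, ha, hb, hab⟩ := ExtShX.exists_dims_smooth (U.ι ≫ p) P.dimension ⟨z, hzU⟩
  obtain ⟨a', b', ha', hb', hab'⟩ := ExtShX.exists_dims_field p d (fun Z hZ => by
    rw [irreducibleComponents_eq_singleton] at hZ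
    rw [show Z = Set.univ from hZ]
    exact (IsHomeomorph.topologicalKrullDim_eq _ (Homeomorph.Set.univ X).isHomeomorph).trans hd) z
  have h0 : ∀ {T : Type u} [TopologicalSpace T] (w : T), IsClosed ({w} : Set T) →
      topologicalKrullDim ↥(closure ({w} : Set T)) ≤ ((0 : ℕ) : WithBot ℕ∞) := fun {T} _ w hw => by
    rw [hw.closure_eq]
    haveI : DiscreteTopology ↥({w} : Set T) := Subsingleton.discreteTopology
    exact (topologicalKrullDim_zero_of_discreteTopology _).trans (le_of_eq Nat.cast_zero.symm)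
  have hzU' : IsClosed ({⟨z, hzU⟩} : Set U) := by
    have hz' : IsClosed ({z} : Set X) := hz
    have e' : ({⟨z, hzU⟩} : Set U) = (Subtype.val : U → X) ⁻¹' {z} := by
      ext w; exact Subtype.ext_iff
    rw [e']
    exact hz'.preimage continuous_subtype_val
  have ha0 : a = 0 := Nat.le_zero.1 (by exact_mod_cast ha.symm.trans_le (h0 _ hzU'))
  have ha0' : a' = 0 := Nat.le_zero.1 (by exact_mod_cast ha'.symm.trans_le (h0 _ hz))
  have hbb : b = b' := by
    have := ringKrullDim_eq_of_ringEquiv (U.stalkIso ⟨z, hzU⟩).commRingCatIsoToRingEquiv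
    rw [hb, hb', Nat.cast_inj] at this
    exact this
  omega

/-- A basis of the sections on an affine piece is a frame. -/
theorem isFrame_of_basis {Y : Scheme.{u}} {E : Y.Modules} (hq : Coh.IsQCoh E) {D : Y.Opens} (hD : IsAffineOpen D)
    {n : ℕ} (b : Module.Basis (Fin n) Γ(Y, D) Γ(E, D)) : TMul.IsFrame (U := D) (fun i => b i) := by
  intro x hx
  have hF : Groth.Agent.QC.IsLoc E D := Groth.Agent.QC.isLoc_of_isQCoh hD (hM := hq)
  letI := (Y.presheaf.germ D x hx).hom.toAlgebra
  haveI := hD.isLocalization_stalk ⟨x, hx⟩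
  letI := Module.compHom (E.presheaf.stalk x) (Y.presheaf.germ D x hx).hom
  haveI : IsScalarTower Γ(Y, D) (Y.presheaf.stalk x) (E.presheaf.stalk x) :=
    ⟨fun a c m => mul_smul ((Y.presheaf.germ D x hx).hom a) c m⟩
  let g : Γ(E, D) →ₗ[Γ(Y, D)] E.presheaf.stalk x :=
    { toFun := mgerm E hx
      map_add' := map_add _
      map_smul' := fun a s => mgerm_smul E hx a s }
  haveI : IsLocalizedModule (hD.primeIdealOf ⟨x, hx⟩).asIdeal.primeCompl g := by
    refine ⟨fun a => ?_, fun t => ?_, fun {s s'} hs => ?_⟩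
    · rw [Module.End.isUnit_iff]
      exact (Groth.Agent.WeakAssLib.isUnit_germ hD hx a.2).smul_bijective
    · obtain ⟨a, s, ha, has⟩ := Groth.Agent.WeakAssLib.exists_germ hD hF hx t
      exact ⟨(s, ⟨a, ha⟩), has⟩
    · have h0 : mgerm E hx (s - s') = 0 := by rw [map_sub, sub_eq_zero]; exact hs
      obtain ⟨a, ha, has⟩ := (Groth.Agent.WeakAssLib.germ_eq_zero_iff hD hF hx _).1 h0
      exact ⟨⟨a, ha⟩, by change a • s = a • s'; rw [← sub_eq_zero, ← smul_sub, has]⟩
  let bs := b.ofIsLocalizedModule (Y.presheaf.stalk x) (hD.primeIdealOf ⟨x, hx⟩).asIdeal.primeCompl g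
  have : (fun c : Fin n → Y.presheaf.stalk x => ∑ i, c i • mgerm E hx (b i)) = bs.equivFun.symm := by
    funext c
    rw [Module.Basis.equivFun_symm_apply]
    exact Finset.sum_congr rfl fun i _ => by rw [Module.Basis.ofIsLocalizedModule_apply]; rfl
  rw [this]
  exact bs.equivFun.symm.bijective

end Groth.Agent.SmDiff
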