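import Groth.Agent.SmDiff.Scheme
import Groth.Agent.CurveRR.Zero
import Groth.Agent.UfdExtend.Local
import Mathlib

/-!
Maps of smooth varieties: smooth of relative dimension `n` iff the relative differentials are locally free of rank `n`.
-/

set_option autoImplicit false
set_option backward.isDefEq.respectTransparency false
set_option linter.style.haveILetI false

universe u

open CategoryTheory CategoryTheory.Limits AlgebraicGeometry TopologicalSpace Opposite
open Groth.Agent.QC (res resO)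

noncomputable section

namespace Groth.Agent.SmDiff

variable {k : Type u} [Field k] {X Y : Scheme.{u}}

/-- Charts of relative dimension `d` over the base field, below any neighbourhood. -/
theorem exists_chart (q : X ⟶ Spec (CommRingCat.of k)) (d : ℕ) [SmoothOfRelativeDimension d q] {x : X} {O : X.Opens}
    (hx : x ∈ O) : ∃ V : X.Opens, IsAffineOpen V ∧ x ∈ V ∧ V ≤ O ∧
      (q.appLE ⊤ V le_top).hom.IsStandardSmoothOfRelativeDimension d := by
  haveI : Subsingleton ↥(Spec (CommRingCat.of k)) := inferInstanceAs (Subsingleton (PrimeSpectrum k))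
  obtain ⟨W, hW, U, hU, hxU, e, hstd⟩ :=
    SmoothOfRelativeDimension.exists_isStandardSmoothOfRelativeDimension (n := d) (f := q) x
  obtain rfl : W = ⊤ := eq_top_iff.2 fun w _ => (Subsingleton.elim (q x) w) ▸ e hxU
  obtain ⟨g, hgO, hxg⟩ := hU.exists_basicOpen_le ⟨x, hx⟩ hxU
  refine ⟨X.basicOpen g, hU.basicOpen g, hxg, hgO, ?_⟩
  haveI := hU.isLocalization_basicOpen g
  have := (RingHom.isStandardSmoothOfRelativeDimension_stableUnderCompositionWithLocalizationAway
    (n := d)).right Γ(X, X.basicOpen g) g (q.appLE ⊤ U e).hom hstd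
  rw [← q.appLE_map e (homOfLE (X.basicOpen_le g)).op]
  exact this

theorem smooth_iff_omega (qX : X ⟶ Spec (CommRingCat.of k)) (qY : Y ⟶ Spec (CommRingCat.of k))
    [IsIntegral X] [IsSeparated qX] [Smooth qX] [IsIntegral Y] [Smooth qY]
    (f : X ⟶ Y) (hf : f ≫ qY = qX) (n dY : ℕ) (hY : topologicalKrullDim ↥Y = dY)
    (hX : topologicalKrullDim ↥X = ((dY + n : ℕ) : WithBot ℕ∞)) :
    SmoothOfRelativeDimension n f ↔ FlatMod.IsFinLocFreeOfRank n (Omega.sheaf f) := by
  classical
  haveI := smoothOfRelativeDimension_of_dim qX (dY + n) hX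
  haveI := smoothOfRelativeDimension_of_dim qY dY hY
  haveI : IsSeparated (f ≫ qY) := by rw [hf]; infer_instance
  haveI : IsSeparated f := IsSeparated.of_comp f qY
  haveI : LocallyOfFiniteType (f ≫ qY) := by rw [hf]; infer_instance
  haveI : LocallyOfFiniteType f := locallyOfFiniteType_of_comp f qY
  constructor
  · intro hsm
    refine W7Strat.isFinLocFreeOfRank_of_frames fun x => ?_
    obtain ⟨U, hU, V, hV, hxV, e, hstd⟩ :=
      SmoothOfRelativeDimension.exists_isStandardSmoothOfRelativeDimension (n := n) (f := f) x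
    haveI : Nonempty V := ⟨⟨x, hxV⟩⟩
    letI : Algebra Γ(Y, U) Γ(X, V) := (f.appLE U V e).hom.toAlgebra
    haveI : Algebra.IsStandardSmoothOfRelativeDimension n Γ(Y, U) Γ(X, V) := hstd
    haveI := Algebra.IsStandardSmoothOfRelativeDimension.isStandardSmooth n (R := Γ(Y, U)) (S := Γ(X, V))
    obtain ⟨ε⟩ := FittLib.exists_omega_sections f hU hV e
    let b := (Module.finBasisOfFinrankEq Γ(X, V) Ω[Γ(X, V)⁄Γ(Y, U)] (Module.finrank_eq_of_rank_eq
      (Algebra.IsStandardSmoothOfRelativeDimension.rank_kaehlerDifferential n))).map ε.symm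
    exact ⟨V, fun i => b i, hxV, isFrame_of_basis (FittLib.isQCoh_omega f) hV b⟩
  · intro hΩ
    refine ⟨fun x => ?_⟩
    obtain ⟨W, fr, hxW, hfr⟩ := CurveRR.exists_frame hΩ x
    obtain ⟨U, hU, hxU, -, hUstd⟩ := exists_chart qY dY (x := f x) (O := ⊤) trivial
    obtain ⟨V, hV, hxV, hVle, hVstd⟩ := exists_chart qX (dY + n) (x := x) (O := f ⁻¹ᵁ U ⊓ W) ⟨hxU, hxW⟩
    have hVU : V ≤ f ⁻¹ᵁ U := le_trans hVle inf_le_left
    haveI : Nonempty V := ⟨⟨x, hxV⟩⟩
    haveI : Nonempty U := ⟨⟨f x, hxU⟩⟩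
    let R := Γ(Spec (CommRingCat.of k), ⊤)
    letI : Algebra R Γ(Y, U) := (qY.appLE ⊤ U le_top).hom.toAlgebra
    letI : Algebra R Γ(X, V) := (qX.appLE ⊤ V le_top).hom.toAlgebra
    letI : Algebra Γ(Y, U) Γ(X, V) := (f.appLE U V hVU).hom.toAlgebra
    haveI : IsScalarTower R Γ(Y, U) Γ(X, V) := IsScalarTower.of_algebraMap_eq' (by
      show (qX.appLE ⊤ V le_top).hom = _
      rw [RingHom.algebraMap_toAlgebra, RingHom.algebraMap_toAlgebra, ← CommRingCat.hom_comp,
        Scheme.Hom.appLE_comp_appLE]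
      subst hf; rfl)
    haveI : Algebra.IsStandardSmoothOfRelativeDimension dY R Γ(Y, U) := hUstd
    haveI : Algebra.IsStandardSmoothOfRelativeDimension (dY + n) R Γ(X, V) := hVstd
    haveI := Algebra.IsStandardSmoothOfRelativeDimension.isStandardSmooth dY (R := R) (S := Γ(Y, U))
    haveI := Algebra.IsStandardSmoothOfRelativeDimension.isStandardSmooth (dY + n) (R := R) (S := Γ(X, V))
    obtain ⟨ε⟩ := FittLib.exists_omega_sections f hU hV hVU
    let bM := (Module.Basis.ofEquivFun (hfr.equiv (le_trans hVle inf_le_right)).symm).map ε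
    haveI := formallySmooth_of_free_kaehler R Γ(Y, U) Γ(X, V) dY n bM
    haveI : Algebra.FinitePresentation Γ(Y, U) Γ(X, V) := .of_restrict_scalars_finitePresentation R _ _
    haveI : Algebra.Smooth Γ(Y, U) Γ(X, V) := ⟨inferInstance, inferInstance⟩
    obtain ⟨g, hg, hstd⟩ := exists_away Γ(Y, U) Γ(X, V) n bM (hV.primeIdealOf ⟨x, hxV⟩).asIdeal
    have hxg : x ∈ X.basicOpen g := by
      by_contra h
      exact hg (Classical.byContradiction fun hh => h ((UfdExtend.mem_basicOpen_iff hV hxV g).2 hh))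
    letI : Algebra Γ(X, V) Γ(X, X.basicOpen g) := (resO X (X.basicOpen_le g)).toAlgebra
    haveI := hV.isLocalization_basicOpen g
    have hgU : X.basicOpen g ≤ f ⁻¹ᵁ U := (X.basicOpen_le g).trans hVU
    letI : Algebra Γ(Y, U) Γ(X, X.basicOpen g) := (f.appLE U (X.basicOpen g) hgU).hom.toAlgebra
    haveI : IsScalarTower Γ(Y, U) Γ(X, V) Γ(X, X.basicOpen g) := IsScalarTower.of_algebraMap_eq' (by
      show (f.appLE U (X.basicOpen g) hgU).hom = _
      rw [← f.appLE_map hVU (homOfLE (X.basicOpen_le g)).op]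
      rfl)
    exact ⟨U, hU, X.basicOpen g, hV.basicOpen g, hxg, hgU, hstd Γ(X, X.basicOpen g)⟩

end Groth.Agent.SmDiff
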