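import Groth.Prelude.Def_FixPt
import Groth.Agent.SmDiff.Cot
import Groth.Agent.SmDiff.Main
import Mathlib

/-!
Maps of smooth varieties: smooth of relative dimension `n` iff injective on cotangent spaces at closed points.
-/

set_option autoImplicit false
set_option backward.isDefEq.respectTransparency false
set_option linter.style.haveILetI false

universe u

open CategoryTheory CategoryTheory.Limits AlgebraicGeometry TopologicalSpace Opposite
open Groth.Agent.QC (resO)

noncomputable section

namespace Groth.Agent.SmDiff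

variable {k : Type u} [Field k] {X Y : Scheme.{u}}

/-- The structure map of a local ring. -/
def baseToStalk (q : X ⟶ Spec (CommRingCat.of k)) (x : X) : CommRingCat.of k ⟶ X.presheaf.stalk x :=
  StructureSheaf.toStalk k (q x) ≫ q.stalkMap x

theorem baseToStalk_formallySmooth (q : X ⟶ Spec (CommRingCat.of k)) [Smooth q] (x : X) :
    (baseToStalk q x).hom.FormallySmooth := by
  refine RingHom.FormallySmooth.stableUnderComposition _ _ ?_
    (Scheme.Hom.mem_smoothLocus.1 ((Scheme.Hom.smoothLocus_eq_top q).ge (Set.mem_univ x)))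
  letI := (StructureSheaf.toStalk k (q x)).hom.toAlgebra
  exact RingHom.formallySmooth_algebraMap.2 (.of_isLocalization (q x).asIdeal.primeCompl)

theorem baseToStalk_essFiniteType (q : X ⟶ Spec (CommRingCat.of k)) [LocallyOfFiniteType q] (x : X) :
    (baseToStalk q x).hom.EssFiniteType := by
  refine RingHom.EssFiniteType.stableUnderComposition _ _ ?_ (LocallyOfFiniteType.stalkMap q x)
  letI := (StructureSheaf.toStalk k (q x)).hom.toAlgebra
  exact RingHom.essFiniteType_algebraMap.2 (.of_isLocalization _ (q x).asIdeal.primeCompl)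

theorem residue_baseToStalk_surjective [IsAlgClosed k] (q : X ⟶ Spec (CommRingCat.of k)) [LocallyOfFiniteType q]
    {x : X} (hx : IsClosed ({x} : Set X)) : Function.Surjective (baseToStalk q x ≫ X.residue x).hom := by
  have h : baseToStalk q x ≫ X.residue x = (residueFieldIsoBase q x hx).inv := Spec.map_injective <| by
    rw [SpecMap_residueFieldIsoBase_inv, Scheme.fromSpecResidueField, Category.assoc,
      ← Scheme.SpecMap_stalkMap_fromSpecStalk, baseToStalk, Spec.map_comp, Spec.map_comp]
    congr 2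
    exact (Spec.fromSpecStalk_eq' _ _).symm
  rw [h]
  exact ((residueFieldIsoBase q x hx).symm.commRingCatIsoToRingEquiv).surjective

theorem cotangentMapAt_injective_iff (f : X ⟶ Y) (x : X) :
    Function.Injective (FixPt.cotangentMapAt f x (f.base x) rfl) ↔
      ∀ a ∈ IsLocalRing.maximalIdeal (Y.presheaf.stalk (f x)),
        (f.stalkMap x).hom a ∈ IsLocalRing.maximalIdeal (X.presheaf.stalk x) ^ 2 →
          a ∈ IsLocalRing.maximalIdeal (Y.presheaf.stalk (f x)) ^ 2 := by
  have hid : ∀ a, FixPt.stalkMapAt f x (f.base x) rfl a = (f.stalkMap x).hom a := fun a => by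
    simp [FixPt.stalkMapAt, TopCat.Presheaf.stalkCongr]
  rw [injective_iff_map_eq_zero]
  constructor
  · intro h a ha ha2
    refine (Ideal.toCotangent_eq_zero _ ⟨a, ha⟩).1 (h _ ?_)
    refine (Ideal.toCotangent_eq_zero _ _).2 ?_
    change FixPt.stalkMapAt f x (f.base x) rfl a ∈ _
    rw [hid]
    exact ha2
  · intro h c hc
    obtain ⟨⟨a, ha⟩, rfl⟩ := Ideal.toCotangent_surjective _ c
    have h2 : FixPt.stalkMapAt f x (f.base x) rfl a ∈ _ := (Ideal.toCotangent_eq_zero _ _).1 hc
    rw [hid] at h2
    exact (Ideal.toCotangent_eq_zero _ _).2 (h a ha h2)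

variable [IsAlgClosed k] (qX : X ⟶ Spec (CommRingCat.of k)) (qY : Y ⟶ Spec (CommRingCat.of k))
    [Smooth qX] [Smooth qY] (f : X ⟶ Y) (hf : f ≫ qY = qX)

include hf in
theorem formallySmooth_stalkMap_iff_injective {x : X} (hx : IsClosed ({x} : Set X)) :
    (f.stalkMap x).hom.FormallySmooth ↔ Function.Injective (FixPt.cotangentMapAt f x (f.base x) rfl) := by
  subst hf
  rw [cotangentMapAt_injective_iff]
  letI := (baseToStalk qY (f x)).hom.toAlgebra
  letI := (baseToStalk (f ≫ qY) x).hom.toAlgebra
  letI := (f.stalkMap x).hom.toAlgebra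
  haveI : IsScalarTower k (Y.presheaf.stalk (f x)) (X.presheaf.stalk x) := IsScalarTower.of_algebraMap_eq' (by
    change (baseToStalk (f ≫ qY) x).hom = (baseToStalk qY (f x) ≫ f.stalkMap x).hom
    rw [baseToStalk, baseToStalk, Scheme.Hom.stalkMap_comp, Category.assoc]
    rfl)
  haveI : Algebra.FormallySmooth k (Y.presheaf.stalk (f x)) := baseToStalk_formallySmooth qY (f x)
  haveI : Algebra.FormallySmooth k (X.presheaf.stalk x) := baseToStalk_formallySmooth (f ≫ qY) x
  haveI : Algebra.EssFiniteType k (Y.presheaf.stalk (f x)) := baseToStalk_essFiniteType qY (f x)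
  haveI : Algebra.EssFiniteType k (X.presheaf.stalk x) := baseToStalk_essFiniteType (f ≫ qY) x
  have h : Function.Surjective (algebraMap k (IsLocalRing.ResidueField (X.presheaf.stalk x))) :=
    residue_baseToStalk_surjective (f ≫ qY) hx
  rw [← (f.stalkMap x).hom.algebraMap_toAlgebra, RingHom.formallySmooth_algebraMap]
  constructor
  · intro hfs a ha ha2
    exact mem_sq_of_formallySmooth k _ _ h ha ha2
  · exact formallySmooth_of_mem_sq k _ _ h

include hf in
theorem smoothOfRelativeDimension_of_smooth [IsIntegral X] [IsIntegral Y] [Smooth f] (n dY : ℕ)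
    (hY : topologicalKrullDim ↥Y = dY) (hX : topologicalKrullDim ↥X = ((dY + n : ℕ) : WithBot ℕ∞)) :
    SmoothOfRelativeDimension n f := by
  haveI := smoothOfRelativeDimension_of_dim qX (dY + n) hX
  haveI := smoothOfRelativeDimension_of_dim qY dY hY
  refine ⟨fun x => ?_⟩
  obtain ⟨U, hU, hxU, -, hUstd⟩ := exists_chart qY dY (x := f x) (O := ⊤) trivial
  obtain ⟨V, hV, hxV, hVU, hVstd⟩ := exists_chart qX (dY + n) (x := x) (O := f ⁻¹ᵁ U) hxU
  let R := Γ(Spec (CommRingCat.of k), ⊤)
  letI : Algebra R Γ(Y, U) := (qY.appLE ⊤ U le_top).hom.toAlgebra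
  letI : Algebra R Γ(X, V) := (qX.appLE ⊤ V le_top).hom.toAlgebra
  letI : Algebra Γ(Y, U) Γ(X, V) := (f.appLE U V hVU).hom.toAlgebra
  haveI : IsScalarTower R Γ(Y, U) Γ(X, V) := IsScalarTower.of_algebraMap_eq' (by
    show (qX.appLE ⊤ V le_top).hom = _
    rw [RingHom.algebraMap_toAlgebra, RingHom.algebraMap_toAlgebra, ← CommRingCat.hom_comp,
      Scheme.Hom.appLE_comp_appLE]
    subst hf; rfl)
  haveI : Algebra.IsStandardSmoothOfRelativeDimension dY R Γ(Y, U) := hUstd
  haveI : Algebra.IsStandardSmoothOfRelativeDimension (dY + n) R Γ(X, V) := hVstd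
  haveI : Algebra.Smooth Γ(Y, U) Γ(X, V) := f.smooth_appLE hU hV hVU
  obtain ⟨g, hg, hstd⟩ := exists_away_of_smooth R Γ(Y, U) Γ(X, V) dY n (hV.primeIdealOf ⟨x, hxV⟩).asIdeal
  have hxg : x ∈ X.basicOpen g := by
    by_contra h
    exact hg (Classical.byContradiction fun hh => h ((UfdExtend.mem_basicOpen_iff hV hxV g).2 hh))
  letI : Algebra Γ(X, V) Γ(X, X.basicOpen g) := (resO X (X.basicOpen_le g)).toAlgebra
  haveI := hV.isLocalization_basicOpen g
  have hgU : X.basicOpen g ≤ f ⁻¹ᵁ U := (X.basicOpen_le g).trans hVU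
  letI : Algebra Γ(Y, U) Γ(X, X.basicOpen g) := (f.appLE U (X.basicOpen g) hgU).hom.toAlgebra
  haveI : IsScalarTower Γ(Y, U) Γ(X, V) Γ(X, X.basicOpen g) := IsScalarTower.of_algebraMap_eq' (by
    show (f.appLE U (X.basicOpen g) hgU).hom = _
    rw [← f.appLE_map hVU (homOfLE (X.basicOpen_le g)).op]
    rfl)
  exact ⟨U, hU, X.basicOpen g, hV.basicOpen g, hxg, hgU, hstd Γ(X, X.basicOpen g)⟩

include hf in
theorem smooth_iff_injective [IsIntegral X] [IsIntegral Y] (n dY : ℕ)
    (hY : topologicalKrullDim ↥Y = dY) (hX : topologicalKrullDim ↥X = ((dY + n : ℕ) : WithBot ℕ∞)) :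
    SmoothOfRelativeDimension n f ↔
      ∀ x : X, IsClosed ({x} : Set X) → Function.Injective (FixPt.cotangentMapAt f x (f.base x) rfl) := by
  constructor
  · intro hn x hx
    haveI : Smooth f := SmoothOfRelativeDimension.smooth n f
    exact (formallySmooth_stalkMap_iff_injective qX qY f hf hx).1
      (Scheme.Hom.mem_smoothLocus.1 ((Scheme.Hom.smoothLocus_eq_top f).ge (Set.mem_univ x)))
  · intro h
    haveI : JacobsonSpace X := LocallyOfFiniteType.jacobsonSpace qX
    haveI : LocallyOfFiniteType (f ≫ qY) := by rw [hf]; infer_instance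
    haveI : LocallyOfFiniteType f := locallyOfFiniteType_of_comp f qY
    haveI : IsLocallyNoetherian Y := LocallyOfFiniteType.isLocallyNoetherian qY
    haveI : LocallyOfFinitePresentation f := LocallyOfFinitePresentation.iff_locallyOfFiniteType.2 inferInstance
    haveI : Smooth f := Scheme.Hom.smoothLocus_eq_top_iff.1 <| by
      by_contra hne
      obtain ⟨z, hz, hzc⟩ := nonempty_inter_closedPoints (X := X) (Z := ((f.smoothLocus : Set X))ᶜ)
        (Set.nonempty_compl.2 fun h' => hne (Opens.ext h')) f.smoothLocus.2.isClosed_compl.isLocallyClosed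
      exact hz (Scheme.Hom.mem_smoothLocus.2 ((formallySmooth_stalkMap_iff_injective qX qY f hf hzc).2 (h z hzc)))
    exact smoothOfRelativeDimension_of_smooth qX qY f hf n dY hY hX

end Groth.Agent.SmDiff
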