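import Mathlib

/-!
Smoothness of a map of smooth algebras through differentials.
-/

set_option autoImplicit false
set_option linter.style.haveILetI false

universe u

open TensorProduct KaehlerDifferential

namespace Groth.Agent.SmDiff

/-- A surjection from the sum with a free quotient forces injectivity, by counting ranks. -/
theorem injective_of_exact_free {B P Q M : Type u} [CommRing B] [AddCommGroup P] [Module B P] [AddCommGroup Q]
    [Module B Q] [AddCommGroup M] [Module B M] {a n : ℕ} (bP : Module.Basis (Fin a) B P)
    (bQ : Module.Basis (Fin (a + n)) B Q) (bM : Module.Basis (Fin n) B M) (φ : P →ₗ[B] Q) (π : Q →ₗ[B] M)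
    (hex : Function.Exact φ π) (hπ : Function.Surjective π) : Function.Injective φ := by
  haveI : Module.Free B M := Module.Free.of_basis bM
  obtain ⟨σ, hσ⟩ := Module.projective_lifting_property π LinearMap.id hπ
  let ψ : P × M →ₗ[B] Q := φ.coprod σ
  have hψ : Function.Surjective ψ := fun q => by
    obtain ⟨p, hp⟩ := (hex (q - σ (π q))).1 (by
      rw [map_sub, show π (σ (π q)) = π q from LinearMap.congr_fun hσ (π q), sub_self])
    exact ⟨(p, π q), by simp [ψ, hp]⟩
  let e : Q ≃ₗ[B] P × M := bQ.equiv (bP.prod bM) finSumFinEquiv.symm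
  haveI : Module.Finite B (P × M) := Module.Finite.of_basis (bP.prod bM)
  have hinj := OrzechProperty.injective_of_surjective_endomorphism (e.toLinearMap ∘ₗ ψ)
    (e.surjective.comp hψ)
  intro p p' h
  have := hinj (a₁ := (p, (0 : M))) (a₂ := (p', 0)) (by simp [ψ, h])
  exact congrArg Prod.fst this

variable (R A B : Type u) [CommRing R] [CommRing A] [CommRing B] [Algebra R A] [Algebra R B] [Algebra A B]
  [IsScalarTower R A B]

/-- Smooth over `R` with injective map of differentials and projective quotient: formally smooth. -/
theorem formallySmooth_of_injective [Algebra.FormallySmooth R B]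
    (hinj : Function.Injective (mapBaseChange R A B)) [Module.Projective B Ω[B⁄A]] :
    Algebra.FormallySmooth A B := by
  haveI : Subsingleton (Algebra.H1Cotangent A B) := by
    refine subsingleton_of_forall_eq 0 fun x => ?_
    have h0 : Algebra.H1Cotangent.δ R A B x = 0 :=
      hinj ((Algebra.H1Cotangent.exact_δ_mapBaseChange R A B).apply_apply_eq_zero x |>.trans (map_zero _).symm)
    obtain ⟨y, rfl⟩ := (Algebra.H1Cotangent.exact_map_δ R A B x).1 h0
    rw [Subsingleton.elim y 0, map_zero]
  exact (Algebra.formallySmooth_iff A B).2 ⟨inferInstance, inferInstance⟩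

/-- Standard smooth algebras of relative dimensions `a` and `a + n` with free relative differentials of rank `n`. -/
theorem formallySmooth_of_free_kaehler (a n : ℕ) [Nontrivial A] [Nontrivial B]
    [Algebra.IsStandardSmoothOfRelativeDimension a R A] [Algebra.IsStandardSmoothOfRelativeDimension (a + n) R B]
    (bM : Module.Basis (Fin n) B Ω[B⁄A]) : Algebra.FormallySmooth A B := by
  haveI := Algebra.IsStandardSmoothOfRelativeDimension.isStandardSmooth a (R := R) (S := A)
  haveI := Algebra.IsStandardSmoothOfRelativeDimension.isStandardSmooth (a + n) (R := R) (S := B)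
  let bA : Module.Basis (Fin a) A Ω[A⁄R] := Module.finBasisOfFinrankEq A Ω[A⁄R] (Module.finrank_eq_of_rank_eq
    (Algebra.IsStandardSmoothOfRelativeDimension.rank_kaehlerDifferential a))
  let bB : Module.Basis (Fin (a + n)) B Ω[B⁄R] := Module.finBasisOfFinrankEq B Ω[B⁄R] (Module.finrank_eq_of_rank_eq
    (Algebra.IsStandardSmoothOfRelativeDimension.rank_kaehlerDifferential (a + n)))
  haveI : Module.Free B Ω[B⁄A] := Module.Free.of_basis bM
  exact formallySmooth_of_injective R A B (injective_of_exact_free (bA.baseChange B) bB bM _ _
    (exact_mapBaseChange_map R A B) (map_surjective R A B))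

/-- Smooth with free differentials of rank `n`: near each prime standard smooth of relative dimension `n`. -/
theorem exists_away (n : ℕ) [Algebra.Smooth A B] (bM : Module.Basis (Fin n) B Ω[B⁄A]) (p : Ideal B) [p.IsPrime] :
    ∃ g, g ∉ p ∧ ∀ (S : Type u) [CommRing S] [Algebra A S] [Algebra B S] [IsScalarTower A B S]
      [IsLocalization.Away g S], Algebra.IsStandardSmoothOfRelativeDimension n A S := by
  haveI : Algebra.IsSmoothAt A p := inferInstance
  obtain ⟨g, hg, hstd⟩ := Algebra.IsSmoothAt.exists_notMem_isStandardSmooth A p
  refine ⟨g, hg, fun S _ _ _ _ _ => ?_⟩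
  haveI := hstd
  haveI : Algebra.IsStandardSmooth A S := Algebra.IsStandardSmooth.of_algEquiv
    ((IsLocalization.algEquiv (Submonoid.powers g) (Localization.Away g) S).restrictScalars A)
  rcases subsingleton_or_nontrivial S with hs | hs
  · obtain ⟨i, hi⟩ := (IsLocalization.subsingleton_iff (M := Submonoid.powers g) (S := S)).1 hs
    exact absurd (‹p.IsPrime›.mem_of_pow_mem i (by
      have : g ^ i = 0 := hi
      rw [this]; exact p.zero_mem)) hg
  rw [Algebra.IsStandardSmoothOfRelativeDimension.iff_of_isStandardSmooth]
  haveI : Algebra.FormallyEtale B S := Algebra.FormallyEtale.of_isLocalization (Submonoid.powers g)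
  rw [rank_eq_card_basis ((bM.baseChange S).map (tensorKaehlerEquivOfFormallyEtale A B S)), Fintype.card_fin]

end Groth.Agent.SmDiff
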